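import Mathlib

set_option linter.unusedSectionVars false
set_option linter.unusedVariables false
set_option linter.unusedSimpArgs false
set_option autoImplicit false
set_option linter.style.haveILetI false
set_option maxHeartbeats 400000

universe w v u

noncomputable section

namespace Groth.Agent.Helper6.InjBdd

open CategoryTheory CategoryTheory.Limits DerivedCategory

variable {A : Type u} [Category.{v} A] [Abelian A] [HasDerivedCategory.{w} A]

/-- morphisms in the derived category to a K-injective complex are represented by chain maps -/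
lemma exists_Q_map_eq (M L : CochainComplex A ℤ) [L.IsKInjective]
    (α : Q.obj M ⟶ Q.obj L) : ∃ g : M ⟶ L, Q.map g = α := by
  obtain ⟨g', hg'⟩ := (CochainComplex.IsKInjective.Qh_map_bijective
    ((HomotopyCategory.quotient _ _).obj M) L).2
    ((quotientCompQhIso A).hom.app M ≫ α ≫ (quotientCompQhIso A).inv.app L)
  obtain ⟨g, rfl⟩ := (HomotopyCategory.quotient _ _).map_surjective g'
  refine ⟨g, ?_⟩
  have := quotientCompQhIso_hom_naturality (C := A) g
  rw [hg'] at this
  simp only [Category.assoc, Iso.inv_hom_id_app, Functor.comp_obj] at this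
  rw [← cancel_epi ((quotientCompQhIso A).hom.app M)]
  rw [← this]
  simp

/-- a chain map to a K-injective complex which vanishes in the derived category is
null-homotopic -/
lemma nonempty_homotopy_zero_of_Q_map_eq_zero (M L : CochainComplex A ℤ) [L.IsKInjective]
    (g : M ⟶ L) (hg : Q.map g = 0) : Nonempty (Homotopy g 0) := by
  have h1 : Qh.map ((HomotopyCategory.quotient _ _).map g) =
      Qh.map ((HomotopyCategory.quotient _ _).map (0 : M ⟶ L)) := by
    have e1 := quotientCompQhIso_hom_naturality (C := A) g
    rw [hg, comp_zero] at e1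
    have e2 : Qh.map ((HomotopyCategory.quotient _ _).map g) = 0 := by
      rw [← cancel_mono ((quotientCompQhIso A).hom.app L), e1, zero_comp]
    rw [e2, Functor.map_zero, Functor.map_zero]
  have h2 := (CochainComplex.IsKInjective.Qh_map_bijective
    ((HomotopyCategory.quotient _ _).obj M) L).1 h1
  exact ⟨HomotopyCategory.homotopyOfEq _ _ h2⟩

end Groth.Agent.Helper6.InjBdd

namespace Groth.Agent.Helper6.InjBdd

open CategoryTheory CategoryTheory.Limits DerivedCategory

variable {A : Type u} [Category.{v} A] [Abelian A] [HasDerivedCategory.{w} A]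

/-- the chain map from a single complex attached to a cocycle -/
def cocycleMap (L : CochainComplex A ℤ) (j : ℤ) (Y : A) (y : Y ⟶ L.X j)
    (hy : y ≫ L.d j (j + 1) = 0) :
    (HomologicalComplex.single A (ComplexShape.up ℤ) j).obj Y ⟶ L :=
  HomologicalComplex.mkHomFromSingle y (fun k hk => by
    have : j + 1 = k := hk
    subst this
    exact hy)

/-- a cocycle of a K-injective complex whose class in the derived category vanishes is a
coboundary -/
lemma exists_lift_of_vanishing (L : CochainComplex A ℤ) [L.IsKInjective] (j : ℤ) (Y : A)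
    (y : Y ⟶ L.X j) (hy : y ≫ L.d j (j + 1) = 0)
    (hvan : Q.map (cocycleMap L j Y y hy) = 0) :
    ∃ h : Y ⟶ L.X (j - 1), h ≫ L.d (j - 1) j = y := by
  obtain ⟨H⟩ := nonempty_homotopy_zero_of_Q_map_eq_zero _ L _ hvan
  have h1 := H.comm j
  rw [prevD_eq _ (show (ComplexShape.up ℤ).Rel (j - 1) j by simp),
    dNext_eq _ (show (ComplexShape.up ℤ).Rel j (j + 1) by simp)] at h1
  simp only [HomologicalComplex.single_obj_d, zero_comp, zero_add, HomologicalComplex.zero_f,
    add_zero] at h1
  dsimp only [cocycleMap] at h1
  rw [HomologicalComplex.mkHomFromSingle_f] at h1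
  refine ⟨(HomologicalComplex.singleObjXSelf (ComplexShape.up ℤ) j Y).inv ≫ H.hom j (j - 1), ?_⟩
  rw [Category.assoc, ← h1, Iso.inv_hom_id_assoc]

end Groth.Agent.Helper6.InjBdd
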