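import Mathlib
import Groth.Agent.Lib.Helper6.InjBdd.KInj

set_option linter.unusedSectionVars false
set_option linter.unusedVariables false
set_option linter.unusedSimpArgs false
set_option autoImplicit false
set_option linter.style.haveILetI false
set_option maxHeartbeats 400000

universe w v u

noncomputable section

namespace Groth.Agent.Helper6.InjBdd

open CategoryTheory CategoryTheory.Limits DerivedCategory

variable {A : Type u} [Category.{v} A] [Abelian A] [HasDerivedCategory.{w} A]

/-- the single object of the derived category as the image of a single complex -/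
def sigmaIso (i : ℤ) (Y : A) : (DerivedCategory.singleFunctor A i).obj Y ≅
    Q.obj ((HomologicalComplex.single A (ComplexShape.up ℤ) i).obj Y) :=
  ((SingleFunctors.evaluation _ _ i).mapIso (singleFunctorsPostcompQIso A)).app Y

/-- vanishing of `Hom(Y[0], K[i])` in terms of maps from single complexes in degree `i` -/
lemma vanishing_iff (K : CochainComplex A ℤ) (i : ℤ) :
    (∀ (Y : A) (φ : (DerivedCategory.singleFunctor A 0).obj Y ⟶ (Q.obj K)⟦i⟧), φ = 0) ↔
      ∀ (Y : A) (ψ : Q.obj ((HomologicalComplex.single A (ComplexShape.up ℤ) i).obj Y) ⟶ Q.obj K),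
        ψ = 0 := by
  constructor
  · intro H Y ψ
    have h1 := H Y (((DerivedCategory.singleFunctors A).shiftIso i 0 i (by simp)).inv.app Y ≫
      ((sigmaIso i Y).hom ≫ ψ)⟦i⟧')
    rw [← cancel_epi (((DerivedCategory.singleFunctors A).shiftIso i 0 i (by simp)).hom.app Y),
      Iso.hom_inv_id_app_assoc, comp_zero] at h1
    have h2 : (sigmaIso i Y).hom ≫ ψ = 0 :=
      (shiftFunctor (DerivedCategory A) i).map_injective (by rw [h1, Functor.map_zero])
    rw [← cancel_epi (sigmaIso i Y).hom, h2, comp_zero]
  · intro H Y φ
    obtain ⟨ψ₁, hψ₁⟩ := (shiftFunctor (DerivedCategory A) i).map_surjective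
      (((DerivedCategory.singleFunctors A).shiftIso i 0 i (by simp)).hom.app Y ≫ φ)
    have h1 : ψ₁ = 0 := by
      rw [← cancel_epi (sigmaIso i Y).inv, H Y ((sigmaIso i Y).inv ≫ ψ₁), comp_zero]
    rw [h1, Functor.map_zero] at hψ₁
    rw [← cancel_epi (((DerivedCategory.singleFunctors A).shiftIso i 0 i (by simp)).hom.app Y),
      ← hψ₁, comp_zero]

end Groth.Agent.Helper6.InjBdd
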