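import Mathlib
import Groth.Agent.Lib.Helper6.InjBdd.Conv

set_option linter.unusedSectionVars false
set_option linter.unusedVariables false
set_option linter.unusedSimpArgs false
set_option autoImplicit false
set_option linter.style.haveILetI false
set_option maxHeartbeats 400000

universe w v u

noncomputable section

namespace Groth.Agent.Helper6.InjBdd

open CategoryTheory CategoryTheory.Limits DerivedCategory

variable {A : Type u} [Category.{v} A] [Abelian A] [HasDerivedCategory.{w} A]

/-- vanishing in `D(A)` gives a section over the cycles -/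
lemma exists_section (L : CochainComplex A ℤ) [L.IsKInjective] (i j : ℤ) (hij : i + 1 = j)
    (hvan : ∀ (Y : A)
      (ψ : Q.obj ((HomologicalComplex.single A (ComplexShape.up ℤ) j).obj Y) ⟶ Q.obj L), ψ = 0) :
    ∃ s : L.cycles j ⟶ L.X i, s ≫ L.d i j = L.iCycles j := by
  obtain rfl : i = j - 1 := by lia
  exact exists_lift_of_vanishing L j (L.cycles j) (L.iCycles j) (by simp) (hvan _ _)

lemma exactAt_of_section (L : CochainComplex A ℤ) (i j : ℤ)
    (s : L.cycles j ⟶ L.X i) (hs : s ≫ L.d i j = L.iCycles j) : L.ExactAt j := by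
  rw [HomologicalComplex.exactAt_iff_isZero_homology]
  have h1 : s ≫ L.toCycles i j = 𝟙 _ := by
    rw [← cancel_mono (L.iCycles j), Category.assoc, HomologicalComplex.toCycles_i, hs,
      Category.id_comp]
  have h2 : L.homologyπ j = 0 := by
    have := L.toCycles_comp_homologyπ i j
    calc L.homologyπ j = (s ≫ L.toCycles i j) ≫ L.homologyπ j := by
          rw [h1, Category.id_comp]
      _ = 0 := by rw [Category.assoc, this, comp_zero]
  exact IsZero.of_epi_eq_zero _ h2

lemma injective_cycles_of_section (L : CochainComplex A ℤ) (n m : ℤ) (hnm : n + 1 = m)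
    [Injective (L.X n)]
    (s : L.cycles m ⟶ L.X n) (hs : s ≫ L.d n m = L.iCycles m) :
    Injective (L.cycles n) := by
  have he : (𝟙 (L.X n) - L.toCycles n m ≫ s) ≫ L.d n m = 0 := by
    rw [Preadditive.sub_comp, Category.id_comp, Category.assoc, hs,
      HomologicalComplex.toCycles_i, sub_self]
  let ρ : L.X n ⟶ L.cycles n :=
    L.liftCycles (𝟙 (L.X n) - L.toCycles n m ≫ s) m (by simp [← hnm]) he
  have hρ : ρ ≫ L.iCycles n = 𝟙 (L.X n) - L.toCycles n m ≫ s := L.liftCycles_i _ _ _ _
  have h0 : L.iCycles n ≫ L.toCycles n m = 0 := by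
    rw [← cancel_mono (L.iCycles m), Category.assoc, HomologicalComplex.toCycles_i,
      HomologicalComplex.iCycles_d, zero_comp]
  have hr : L.iCycles n ≫ ρ = 𝟙 _ := by
    rw [← cancel_mono (L.iCycles n), Category.assoc, hρ, Preadditive.comp_sub, Category.comp_id,
      reassoc_of% h0, zero_comp, sub_zero, Category.id_comp]
  exact Retract.injective { i := L.iCycles n, r := ρ, retract := hr }

/-- truncating a bounded below complex of injectives which is acyclic in high degrees -/
lemma trunc_good (L : CochainComplex A ℤ) (a n : ℤ) (han : a ≤ n) [L.IsStrictlyGE a]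
    (hL : ∀ q : ℤ, Injective (L.X q)) (hc : Injective (L.cycles n)) :
    (L.truncLE n).IsStrictlyGE a ∧ (L.truncLE n).IsStrictlyLE n ∧
      ∀ q : ℤ, Injective ((L.truncLE n).X q) := by
  refine ⟨?_, inferInstance, ?_⟩
  · rw [CochainComplex.isStrictlyGE_iff]
    intro i hi
    exact IsZero.of_iso (CochainComplex.isZero_of_isStrictlyGE L a i hi)
      (L.truncLEXIso n i (by lia))
  · intro q
    obtain h | rfl | h := lt_trichotomy q n
    · exact Injective.of_iso (L.truncLEXIso n q h).symm (hL q)
    · exact Injective.of_iso (L.truncLEXIsoCycles q).symm hc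
    · exact (CochainComplex.isZero_of_isStrictlyLE _ n q h).injective

/-- transfer of vanishing along a quasi-isomorphism -/
lemma vanishing_transfer {K L : CochainComplex A ℤ} (f : K ⟶ L) [QuasiIso f] (j : ℤ)
    (hvan : ∀ (Y : A)
      (ψ : Q.obj ((HomologicalComplex.single A (ComplexShape.up ℤ) j).obj Y) ⟶ Q.obj K), ψ = 0)
    (Y : A) (ψ : Q.obj ((HomologicalComplex.single A (ComplexShape.up ℤ) j).obj Y) ⟶ Q.obj L) :
    ψ = 0 := by
  haveI : IsIso (Q.map f) := by rw [isIso_Q_map_iff_quasiIso]; infer_instance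
  have h := hvan Y (ψ ≫ inv (Q.map f))
  rw [← cancel_mono (inv (Q.map f)), h, zero_comp]

theorem main [EnoughInjectives A] (K : CochainComplex A ℤ) (a : ℤ) [K.IsStrictlyGE a] :
    (∃ (I : CochainComplex A ℤ) (b c : ℤ) (f : K ⟶ I), I.IsStrictlyGE b ∧ I.IsStrictlyLE c ∧
        (∀ n : ℤ, Injective (I.X n)) ∧ QuasiIso f) ↔
      ∃ n₀ : ℤ, ∀ (Y : A) (i : ℤ), n₀ < i →
        ∀ φ : (DerivedCategory.singleFunctor A 0).obj Y ⟶ (DerivedCategory.Q.obj K)⟦i⟧,
          φ = 0 := by
  constructor
  · rintro ⟨I, b, c, f, hb, hc, hI, hf⟩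
    refine ⟨c, fun Y i hi φ => (vanishing_iff K i).2 (fun Y ψ => ?_) Y φ⟩
    haveI : I.IsKInjective := CochainComplex.isKInjective_of_injective I b
    haveI : IsIso (Q.map f) := by rw [isIso_Q_map_iff_quasiIso]; exact hf
    obtain ⟨g, hg⟩ := exists_Q_map_eq _ I (ψ ≫ Q.map f)
    have hg0 : g = 0 := by
      apply HomologicalComplex.from_single_hom_ext
      exact (CochainComplex.isZero_of_isStrictlyLE I c i hi).eq_of_tgt _ _
    rw [hg0, Functor.map_zero] at hg
    rw [← cancel_mono (Q.map f), ← hg, zero_comp]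
  · rintro ⟨n₀, H⟩
    obtain ⟨L, i, hi, hL, hLa⟩ := CochainComplex.Plus.modelCategoryQuillen.exists_quasiIso_injective K a
    haveI : L.IsKInjective := CochainComplex.isKInjective_of_injective L a
    have hvan : ∀ j : ℤ, n₀ < j → ∀ (Y : A)
        (ψ : Q.obj ((HomologicalComplex.single A (ComplexShape.up ℤ) j).obj Y) ⟶ Q.obj L),
        ψ = 0 := fun j hj =>
      vanishing_transfer i j ((vanishing_iff K j).1 (fun Y φ => H Y j hj φ))
    have hsec : ∀ j : ℤ, n₀ < j → ∃ s : L.cycles j ⟶ L.X (j - 1),
        s ≫ L.d (j - 1) j = L.iCycles j := fun j hj =>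
      exists_section L (j - 1) j (by lia) (hvan j hj)
    set n := max n₀ a with hn
    have hn₀ : n₀ ≤ n := le_max_left _ _
    have han : a ≤ n := le_max_right _ _
    haveI : L.IsLE n := by
      rw [CochainComplex.isLE_iff]
      intro j hj
      obtain ⟨s, hs⟩ := hsec j (by lia)
      exact exactAt_of_section L (j - 1) j s hs
    have hc : Injective (L.cycles n) := by
      obtain ⟨s, hs⟩ := exists_section L n (n + 1) rfl (hvan (n + 1) (by lia))
      haveI := hL n
      exact injective_cycles_of_section L n (n + 1) rfl s hs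
    obtain ⟨h1, h2, h3⟩ := trunc_good L a n han hL hc
    haveI : (L.truncLE n).IsKInjective := CochainComplex.isKInjective_of_injective _ a
    haveI : IsIso (Q.map (L.ιTruncLE n)) := by rw [isIso_Q_map_iff_quasiIso]; infer_instance
    haveI : IsIso (Q.map i) := by rw [isIso_Q_map_iff_quasiIso]; exact hi
    obtain ⟨f, hf⟩ := exists_Q_map_eq K (L.truncLE n) (Q.map i ≫ inv (Q.map (L.ιTruncLE n)))
    refine ⟨L.truncLE n, a, n, f, h1, h2, h3, ?_⟩
    rw [← isIso_Q_map_iff_quasiIso, hf]
    infer_instance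

end Groth.Agent.Helper6.InjBdd
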